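import Cfsg.Agent.Intrinsic.Basic
import Cfsg.Agent.Intrinsic.Lifting
set_option linter.all false

/-!
# T6: the 2-component `cen X v = O^{2'}(C_X(v))` of `C_H(v)` below a 2-component `X` of `H` fixed by `v`

Also: subgroups `J ≤ X` with `J ⊔ core X = X`.
-/

set_option autoImplicit false

open Cfsg Subgroup
open Cfsg.Agent.SignalizersComponents Cfsg.Agent.Lib
open Cfsg.Agent.SignalizersComponents.IntrinsicBasic
open Cfsg.Agent.SignalizersComponents.PLayerAut
open Cfsg.Agent.Intrinsic.Basic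
open scoped commutatorElement

namespace Cfsg.Agent.Intrinsic.Cen

variable {G : Type*} [Group G]

/-- `O^{2'}(C_X(v))` -/
def cen (X : Subgroup G) (v : G) : Subgroup G :=
  PComponents.pElem 2 (X ⊓ centralizer ({v} : Set G))

theorem cen_le (X : Subgroup G) (v : G) : cen X v ≤ X :=
  (PComponents.pElem_le _).trans inf_le_left

theorem cen_le_centralizer (X : Subgroup G) (v : G) : cen X v ≤ centralizer ({v} : Set G) :=
  (PComponents.pElem_le _).trans inf_le_right

theorem comm_of_mem_cen {X : Subgroup G} {v m : G} (h : m ∈ cen X v) : m * v = v * m :=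
  mem_centralizer_singleton_iff.mp (cen_le_centralizer X v h)

theorem mem_cen {X : Subgroup G} {v m : G} (hm : m ∈ X) (hmv : m * v = v * m) {n : ℕ}
    (hn : m ^ 2 ^ n = 1) : m ∈ cen X v :=
  PComponents.mem_pElem (n := n) ⟨hm, mem_centralizer_singleton_iff.mpr hmv⟩ hn

theorem mem_cen_of_sq {X : Subgroup G} {v m : G} (hm : m ∈ X) (hmv : m * v = v * m)
    (hn : m * m = 1) : m ∈ cen X v :=
  mem_cen hm hmv (n := 1) (by rw [pow_one, pow_two, hn])

theorem cj_pElem (g : G) (Y : Subgroup G) :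
    cj g (PComponents.pElem 2 Y) = PComponents.pElem 2 (cj g Y) := by
  have key : ∀ (g : G) (Y : Subgroup G), cj g (PComponents.pElem 2 Y) ≤
      PComponents.pElem 2 (cj g Y) := by
    intro g Y
    rw [cj_def, Subgroup.map_le_iff_le_comap]
    refine (Subgroup.closure_le _).mpr ?_
    rintro y ⟨hy, n, hn⟩
    refine PComponents.mem_pElem (n := n) (conj_mem_cj hy) ?_
    change (g * y * g⁻¹) ^ 2 ^ n = 1
    rw [conj_pow, hn, mul_one, mul_inv_cancel]
  apply le_antisymm (key g Y)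
  have h := cj_mono (g := g) (key g⁻¹ (cj g Y))
  rwa [cj_cj_inv, cj_inv_cj] at h

theorem cj_cen (g : G) (X : Subgroup G) (v : G) : cj g (cen X v) = cen (cj g X) (g * v * g⁻¹) := by
  rw [cen, cj_pElem, cj_inf, cj_centralizer, cen]

/-- an element normalizing `X` and commuting with `v` normalizes `cen X v` -/
theorem mem_normalizer_cen {X : Subgroup G} {v a : G} (haX : a ∈ normalizer (X : Set G))
    (hav : a * v = v * a) : a ∈ normalizer (cen X v : Set G) := by
  rw [mem_normalizer_iff_cj] at haX ⊢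
  rw [cj_cen, haX, hav, mul_inv_cancel_right]

/-! ### subgroups covering `X / O(X)` -/

theorem exists_mul_of_sup {J X : Subgroup G} (hs : J ⊔ core X = X) {x : G} (hx : x ∈ X) :
    ∃ j ∈ J, j⁻¹ * x ∈ core X := by
  have hJ : J ≤ X := by rw [← hs]; exact le_sup_left
  have hle : J ≤ normalizer (core X : Set G) := hJ.trans (le_normalizer_core X)
  rw [← hs] at hx
  have h1 : x ∈ ((J ⊔ core X : Subgroup G) : Set G) := hx
  rw [Subgroup.coe_mul_of_left_le_normalizer_right _ _ hle] at h1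
  obtain ⟨j, hj, c, hc, rfl⟩ := h1
  exact ⟨j, hj, by simpa using hc⟩

theorem sup_of_exists {J X : Subgroup G} (hJ : J ≤ X) (h : ∀ x ∈ X, ∃ j ∈ J, j⁻¹ * x ∈ core X) :
    J ⊔ core X = X := by
  apply le_antisymm (sup_le hJ (core_le X))
  intro x hx
  obtain ⟨j, hj, hc⟩ := h x hx
  have : x = j * (j⁻¹ * x) := by group
  rw [this]
  exact mul_mem (mem_sup_left hj) (mem_sup_right hc)

variable [Finite G]

theorem core_of_sup {J X : Subgroup G} (hs : J ⊔ core X = X) : core J = J ⊓ core X := by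
  have hJ : J ≤ X := by rw [← hs]; exact le_sup_left
  apply le_antisymm
  · refine le_inf (core_le J) ?_
    -- `core J ⊔ core X` is a normal odd subgroup of `X`
    have h1 : core J ≤ normalizer (core X : Set G) :=
      (core_le J).trans (hJ.trans (le_normalizer_core X))
    obtain ⟨W, hW⟩ : ∃ W, W = core X ⊔ core J := ⟨_, rfl⟩
    have hodd : Odd (Nat.card W) := by
      have h2 := CoprimeBasic.card_sup_dvd (X := core X) (Y := core J) h1
      rw [hW]
      exact Odd.of_dvd_nat ((odd_card_core X).mul (odd_card_core J)) h2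
    have hnJ : J ≤ normalizer (W : Set G) := by
      intro j hj
      have e1 : j ∈ normalizer (core J : Set G) := le_normalizer_core J hj
      have e2 : j ∈ normalizer (core X : Set G) := le_normalizer_core X (hJ hj)
      rw [mem_normalizer_iff_cj] at e1 e2 ⊢
      rw [hW, cj_def, Subgroup.map_sup, ← cj_def, ← cj_def, e1, e2]
    have hnorm : X ≤ normalizer (W : Set G) := by
      have h4 : J ⊔ core X ≤ normalizer (W : Set G) := by
        refine sup_le hnJ ?_
        have h5 : core X ≤ W := hW ▸ le_sup_left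
        exact h5.trans le_normalizer
      rwa [hs] at h4
    have hWX : W ≤ X := hW ▸ sup_le (core_le X) ((core_le J).trans hJ)
    have h3 := le_core hWX hnorm hodd
    exact (hW ▸ le_sup_right : core J ≤ W).trans h3
  · refine le_core inf_le_left ?_ (Odd.of_dvd_nat (odd_card_core X) (card_dvd_of_le inf_le_right))
    intro j hj
    have e2 : j ∈ normalizer (core X : Set G) := le_normalizer_core X (hJ hj)
    rw [mem_normalizer_iff_cj] at e2 ⊢
    rw [cj_inf, e2, cj_eq_self_of_mem hj]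

theorem core_le_of_sup {J X : Subgroup G} (hs : J ⊔ core X = X) : core J ≤ core X := by
  rw [core_of_sup hs]; exact inf_le_right

/-- `J / O(J) ≅ X / O(X)` when `J ⊔ core X = X`. -/
theorem exists_quotEquiv {J X : Subgroup G} (hs : J ⊔ core X = X) :
    ∃ e : (↥J ⧸ oddCore ↥J) ≃* (↥X ⧸ oddCore ↥X),
      ∀ (j : G) (hj : j ∈ J) (hjX : j ∈ X),
        e (QuotientGroup.mk ⟨j, hj⟩) = QuotientGroup.mk ⟨j, hjX⟩ := by
  have hJ : J ≤ X := by rw [← hs]; exact le_sup_left
  let f : ↥J →* (↥X ⧸ oddCore ↥X) := (QuotientGroup.mk' (oddCore ↥X)).comp (inclusion hJ)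
  have hf : Function.Surjective f := by
    intro x
    obtain ⟨⟨x, hx⟩, rfl⟩ := QuotientGroup.mk'_surjective (oddCore ↥X) x
    obtain ⟨j, hj, hc⟩ := exists_mul_of_sup hs hx
    refine ⟨⟨j, hj⟩, ?_⟩
    exact mk_eq_mk_iff.mpr hc
  have hker : oddCore ↥J = f.ker := by
    ext j
    rw [MonoidHom.mem_ker]
    have h1 : f j = 1 ↔ (inclusion hJ j) ∈ oddCore ↥X := QuotientGroup.eq_one_iff _
    have h2 : (j : G) ∈ core J ↔ j ∈ oddCore ↥J := mem_core_iff j.2
    have h3 : (j : G) ∈ core X ↔ (inclusion hJ j) ∈ oddCore ↥X := mem_core_iff (hJ j.2)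
    rw [h1, ← h2, ← h3, core_of_sup hs, mem_inf]
    exact ⟨fun h => h.2, fun h => ⟨j.2, h⟩⟩
  refine ⟨(QuotientGroup.quotientMulEquivOfEq hker).trans
    (QuotientGroup.quotientKerEquivOfSurjective f hf), ?_⟩
  intro j hj hjX
  rfl

theorem cover_of_sup {J X : Subgroup G} (hs : J ⊔ core X = X) {C : Type*} [Group C] :
    IsNonsplitDoubleCover (↥J ⧸ oddCore ↥J) C ↔ IsNonsplitDoubleCover (↥X ⧸ oddCore ↥X) C := by
  obtain ⟨e, -⟩ := exists_quotEquiv hs
  exact ⟨cover_congr e, cover_congr e.symm⟩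

/-- `Fixes a J` and `Fixes a X` when `J ⊔ core X = X` -/
theorem fixes_iff_of_sup {J X : Subgroup G} (hs : J ⊔ core X = X) {a : G}
    (haJ : a ∈ normalizer (J : Set G)) (haX : a ∈ normalizer (X : Set G)) :
    Fixes a J ↔ Fixes a X := by
  have hJ : J ≤ X := by rw [← hs]; exact le_sup_left
  rw [fixes_iff_conj, fixes_iff_conj]
  constructor
  · rintro ⟨-, h⟩
    refine ⟨haX, fun x hx => ?_⟩
    obtain ⟨j, hj, hc⟩ := exists_mul_of_sup hs hx
    obtain ⟨c, hc'⟩ : ∃ c, c = j⁻¹ * x := ⟨_, rfl⟩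
    rw [← hc'] at hc
    have hx' : x = j * c := by rw [hc']; group
    have h1 : j⁻¹ * (a * j * a⁻¹) ∈ core X := core_le_of_sup hs (h j hj)
    have h2 : a * c * a⁻¹ ∈ core X := conj_mem_core haX hc
    have h3 : x⁻¹ * (a * x * a⁻¹) = c⁻¹ * (j⁻¹ * (a * j * a⁻¹)) * (a * c * a⁻¹) := by
      rw [hx']; group
    rw [h3]
    exact mul_mem (mul_mem (inv_mem hc) h1) h2
  · rintro ⟨-, h⟩
    refine ⟨haJ, fun j hj => ?_⟩
    rw [core_of_sup hs]
    exact ⟨J.mul_mem (J.inv_mem hj) ((mem_normalizer_iff.mp haJ j).mp hj), h j (hJ hj)⟩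

/-! ### T6 -/

/-- **T6.** `cen X v` is a 2-component of `C_H(v)` covering `X / O(X)`. -/
theorem isComp_cen {H X : Subgroup G} {v : G} (hX : IsComp H X) (hv : v ∈ H) (hvv : v * v = 1)
    (hf : Fixes v X) : IsComp (H ⊓ centralizer ({v} : Set G)) (cen X v) ∧
      cen X v ⊔ core X = X := by
  obtain ⟨L, h1, h2, h3, h4⟩ :=
    IntrinsicLift.exists_comp_cen hX.tc hv hvv ((hX.fixes_iff hv).mp hf)
  have hL : L = cen X v := by
    apply le_antisymm
    · rw [← Charac.pElem_eq h1]
      exact PComponents.pElem_mono (le_inf h2 (h1.le.trans inf_le_right))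
    · refine (Subgroup.closure_le _).mpr ?_
      rintro y ⟨⟨hyX, hyv⟩, n, hn⟩
      exact h4 y hyX (mem_centralizer_singleton_iff.mp hyv) n hn
  rw [← hL]
  refine ⟨IsComp.of_tc h1, sup_of_exists h2 fun x hx => ?_⟩
  obtain ⟨l, hl, hc⟩ := h3 x hx
  refine ⟨l, hl, ?_⟩
  rw [hX.core_eq]
  exact ⟨X.mul_mem (X.inv_mem (h2 hl)) hx, hc⟩

theorem cover_cen {H X : Subgroup G} {v : G} (hX : IsComp H X) (hv : v ∈ H) (hvv : v * v = 1)
    (hf : Fixes v X) {C : Type*} [Group C] :
    IsNonsplitDoubleCover (↥(cen X v) ⧸ oddCore ↥(cen X v)) C ↔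
      IsNonsplitDoubleCover (↥X ⧸ oddCore ↥X) C :=
  cover_of_sup (isComp_cen hX hv hvv hf).2

theorem core_cen {H X : Subgroup G} {v : G} (hX : IsComp H X) (hv : v ∈ H) (hvv : v * v = 1)
    (hf : Fixes v X) : core (cen X v) = cen X v ⊓ core X :=
  core_of_sup (isComp_cen hX hv hvv hf).2

omit [Finite G] in
/-- `u` is central in `C(u)`: facts for pairs -/
theorem pair_comm {n : ℕ} {u : G} {X : Subgroup G} (h : IsPair n u X) {x : G} (hx : x ∈ X) :
    x * u = u * x := mem_centralizer_singleton_iff.mp (h.comp.le hx)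

omit [Finite G] in
theorem pair_mem_cen {n : ℕ} {u : G} {X : Subgroup G} (h : IsPair n u X) {v : G}
    (hv : v * u = u * v) : u ∈ cen X v :=
  mem_cen_of_sq h.mem hv.symm h.sq

/-- The pump-up of a pair: `v` commutes with `u` and fixes `X`; then `cen X v` lies in a unique
2-component of `C(v)`, and this contains `u`. -/
theorem exists_pump {n : ℕ} {u : G} {X : Subgroup G} (h : IsPair n u X) {v : G} (hvv : v * v = 1)
    (hv : v * u = u * v) (hf : Fixes v X) :
    ∃ M, IsComp (centralizer ({v} : Set G)) M ∧ cen X v ≤ M ∧ u ∈ M := by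
  have hvC : v ∈ centralizer ({u} : Set G) := mem_centralizer_singleton_iff.mpr hv
  have h1 := (isComp_cen h.comp hvC hvv hf).1
  rw [inf_comm] at h1
  obtain ⟨M, hM, hle⟩ := exists_pumpup h.sq (pair_mem_cen h hv) h1
  exact ⟨M, hM, hle, hle (pair_mem_cen h hv)⟩

theorem pump_unique {n : ℕ} {u : G} {X : Subgroup G} (h : IsPair n u X) {v : G} (hvv : v * v = 1)
    (hv : v * u = u * v) (hf : Fixes v X) {M₁ M₂ : Subgroup G}
    (h₁ : IsComp (centralizer ({v} : Set G)) M₁) (h₂ : IsComp (centralizer ({v} : Set G)) M₂)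
    (hle₁ : cen X v ≤ M₁) (hle₂ : cen X v ≤ M₂) : M₁ = M₂ :=
  (isComp_cen h.comp (mem_centralizer_singleton_iff.mpr hv) hvv hf).1.unique h₁ h₂ hle₁ hle₂

end Cfsg.Agent.Intrinsic.Cen
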