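import Cfsg.Agent.SignalizersComponents.CoprimeBasic
import Cfsg.Agent.FastGrp
import Cfsg.Agent.Prune
set_option linter.all false
prune_inst 0x7f00000000000000000000000000000000000000000000000000000000000000000000000000000000000000000000000000000000000000000000000000000000000000000000000000000000000000003fffffffffffffffffffffffffffbeffbdffffffff
open scoped Cfsg.Agent.FastGrp

/-!
# Lifting involutions through a normal subgroup of odd order
-/

set_option autoImplicit false

namespace Cfsg.Agent.Intrinsic.OddQuot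

variable {C : Type*} [Group C] [Finite C] {N : Subgroup C} [N.Normal]

omit [Finite C] in
/-- An involution modulo a normal subgroup of odd order is the image of an involution, a power of any lift. -/
theorem pow_card_lift (hN : Odd (Nat.card N)) {y : C} (hy : QuotientGroup.mk' N y * QuotientGroup.mk' N y = 1) :
    QuotientGroup.mk' N (y ^ Nat.card N) = QuotientGroup.mk' N y ∧ y ^ Nat.card N * y ^ Nat.card N = 1 := by
  constructor
  · obtain ⟨r, hr⟩ := hN
    rw [map_pow, hr, pow_succ, pow_mul, pow_two, hy, one_pow, one_mul]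
  · rw [← map_mul] at hy
    have h1 : y * y ∈ N := (QuotientGroup.eq_one_iff _).1 hy
    have h2 : (y * y) ^ Nat.card N = 1 := by
      have := pow_card_eq_one' (x := (⟨y * y, h1⟩ : N))
      exact congrArg Subtype.val this
    rw [← (Commute.refl y).mul_pow, h2]

omit [Finite C] in
theorem exists_inv_lift (hN : Odd (Nat.card N)) (q : C ⧸ N) (hq : q * q = 1) :
    ∃ x : C, QuotientGroup.mk' N x = q ∧ x * x = 1 := by
  obtain ⟨y, rfl⟩ := QuotientGroup.mk'_surjective N q
  obtain ⟨h1, h2⟩ := pow_card_lift hN hq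
  exact ⟨y ^ Nat.card N, h1, h2⟩

omit [Finite C] in
/-- Involutions with the same image are conjugate by an element of the kernel. -/
theorem conj_of_mk_eq (hN : Odd (Nat.card N)) {x x' : C} (hx : x * x = 1) (hx' : x' * x' = 1)
    (h : QuotientGroup.mk' N x = QuotientGroup.mk' N x') : ∃ o ∈ N, o * x * o⁻¹ = x' := by
  have hr : x * x' ∈ N := by
    rw [← QuotientGroup.eq_one_iff]
    show QuotientGroup.mk' N (x * x') = 1
    rw [map_mul, ← h, ← map_mul, hx, map_one]
  set r := x * x' with hrdef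
  have hrn : r ^ Nat.card N = 1 := by
    have := pow_card_eq_one' (x := (⟨r, hr⟩ : N))
    exact congrArg Subtype.val this
  obtain ⟨m, hm⟩ := hN
  -- `s` is the square root of `r`
  have hss : r ^ (m + 1) * r ^ (m + 1) = r := by
    rw [← pow_add, show m + 1 + (m + 1) = (2 * m + 1) + 1 by ring, pow_succ, ← hm, hrn, one_mul]
  have hxi : x⁻¹ = x := inv_eq_of_mul_eq_one_left hx
  have hx'i : x'⁻¹ = x' := inv_eq_of_mul_eq_one_left hx'
  have hinv : x * r * x⁻¹ = r⁻¹ := by
    rw [hrdef, mul_inv_rev, hxi, hx'i, ← mul_assoc, hx, one_mul]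
  have hinv' : x * r ^ (m + 1) * x⁻¹ = (r ^ (m + 1))⁻¹ := by
    rw [← conj_pow, hinv, inv_pow]
  refine ⟨(r ^ (m + 1))⁻¹, N.inv_mem (N.pow_mem hr _), ?_⟩
  calc (r ^ (m + 1))⁻¹ * x * (r ^ (m + 1))⁻¹⁻¹ = (r ^ (m + 1))⁻¹ * (x * r ^ (m + 1) * x⁻¹) * x := by group
    _ = (r ^ (m + 1) * r ^ (m + 1))⁻¹ * x := by rw [hinv']; group
    _ = x' := by rw [hss, hrdef, mul_inv_rev, hxi, mul_assoc, hx, mul_one, hx'i]

/-- An element commuting with the image of an involution `x` is the image of an element commuting with `x`. -/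
theorem exists_comm_lift (hN : Odd (Nat.card N)) {x : C} (hx : x * x = 1) (q : C ⧸ N)
    (hq : q * QuotientGroup.mk' N x = QuotientGroup.mk' N x * q) :
    ∃ y : C, QuotientGroup.mk' N y = q ∧ y * x = x * y := by
  have : Fact (Nat.Prime 2) := ⟨Nat.prime_two⟩
  obtain ⟨y, rfl⟩ := QuotientGroup.mk'_surjective N q
  obtain ⟨d, hd, hfix⟩ := SignalizersComponents.CoprimeBasic.exists_fixed_in_coset_of_pow (p := 2) x 1
    (by rw [pow_one, pow_two, hx]) N (fun h => (Nat.not_even_iff_odd.2 hN) (even_iff_two_dvd.2 h))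
    (fun d hd => (inferInstance : N.Normal).conj_mem d hd x) y (by
      rw [← QuotientGroup.eq_one_iff]
      show QuotientGroup.mk' N _ = 1
      rw [map_mul, map_mul, map_mul, map_inv, map_inv, ← hq]
      group)
  refine ⟨y * d, ?_, hfix.symm⟩
  rw [map_mul, (QuotientGroup.eq_one_iff d).2 hd |> (fun h => (h : QuotientGroup.mk' N d = 1)), mul_one]

/-- An involution commuting with the image of an involution `x` is the image of an involution commuting with `x`. -/
theorem exists_comm_inv_lift (hN : Odd (Nat.card N)) {x : C} (hx : x * x = 1) (q : C ⧸ N) (hqq : q * q = 1)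
    (hq : q * QuotientGroup.mk' N x = QuotientGroup.mk' N x * q) :
    ∃ y : C, QuotientGroup.mk' N y = q ∧ y * y = 1 ∧ y * x = x * y := by
  obtain ⟨y, rfl, hyx⟩ := exists_comm_lift hN hx q hq
  obtain ⟨h1, h2⟩ := pow_card_lift hN hqq
  exact ⟨y ^ Nat.card N, h1, h2, ((show Commute y x from hyx).pow_left _).eq⟩

omit [Finite C] in
/-- A 2-element with trivial image is trivial. -/
theorem eq_one_of_mk_eq_one (hN : Odd (Nat.card N)) {x : C} {j : ℕ} (hx : x ^ 2 ^ j = 1)
    (h : QuotientGroup.mk' N x = 1) : x = 1 := by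
  have h1 : x ∈ N := (QuotientGroup.eq_one_iff x).1 h
  have h2 : orderOf x ∣ 2 ^ j := orderOf_dvd_of_pow_eq_one hx
  have h3 : orderOf x ∣ Nat.card N := by
    have := orderOf_dvd_natCard (⟨x, h1⟩ : N)
    rwa [Subgroup.orderOf_mk] at this
  have h4 : Nat.Coprime (2 ^ j) (Nat.card N) := Nat.Coprime.pow_left _ (Nat.coprime_two_left.2 hN)
  exact orderOf_eq_one_iff.1 (Nat.Coprime.eq_one_of_dvd (Nat.Coprime.coprime_dvd_right h3 h4 |> fun h => h.symm) h2)

end Cfsg.Agent.Intrinsic.OddQuot
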