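import Cfsg.Agent.Intrinsic.AnLift
import Cfsg.Agent.StandardComponent.AltQuat
import Cfsg.Agent.Intrinsic.Basic
set_option linter.all false

-- part: Intrinsic/AnTypes
section
/-!
# Involutory automorphisms of double covers of alternating groups (facts (A1) and (A2) of S1738)

`K : Cover α C`, `f` an endomorphism of `C` with `f (f g) = g` inducing the conjugation by `σ` on the alternating
group, where `σ` is an involution with at most 4 fixed points and `8 ≤ card α`.
-/

set_option autoImplicit false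
set_option linter.unusedSectionVars false

namespace Cfsg.Agent.Intrinsic.AnTypes

open Equiv Cfsg.Agent.SporRec.TwoAn Cfsg.Agent.Intrinsic.AnLift

variable {α : Type*} [Fintype α] [DecidableEq α]

/-! ### Embedded permutations -/

/-- permutations of eight letters as permutations of `α` -/
noncomputable def V (e : Fin 8 ↪ α) : Perm (Fin 8) →* Perm α := Perm.viaEmbeddingHom e

theorem V_apply (e : Fin 8 ↪ α) (s : Perm (Fin 8)) (i : Fin 8) : V e s (e i) = e (s i) :=
  Perm.viaEmbedding_apply s e i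

theorem V_apply_of_notMem (e : Fin 8 ↪ α) (s : Perm (Fin 8)) {x : α} (hx : x ∉ Set.range e) : V e s x = x :=
  Perm.viaEmbedding_apply_of_notMem s e x hx

theorem eq_V (e : Fin 8 ↪ α) (s : Perm (Fin 8)) {τ : Perm α} (h : ∀ i, τ (e i) = e (s i))
    (h' : ∀ x, x ∉ Set.range e → τ x = x) : τ = V e s := by
  ext x
  by_cases hx : x ∈ Set.range e
  · obtain ⟨i, rfl⟩ := hx
    rw [h, V_apply]
  · rw [h' x hx, V_apply_of_notMem e s hx]

theorem V_swap (e : Fin 8 ↪ α) (i j : Fin 8) : V e (swap i j) = swap (e i) (e j) := by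
  symm
  apply eq_V
  · intro k
    by_cases h1 : k = i
    · subst h1; rw [swap_apply_left, swap_apply_left]
    by_cases h2 : k = j
    · subst h2; rw [swap_apply_right, swap_apply_right]
    rw [swap_apply_of_ne_of_ne (e.injective.ne h1) (e.injective.ne h2), swap_apply_of_ne_of_ne h1 h2]
  · intro x hx
    exact swap_apply_of_ne_of_ne (fun h => hx ⟨i, h.symm⟩) (fun h => hx ⟨j, h.symm⟩)

theorem card_support_emb (e : Fin 8 ↪ α) {τ : Perm α} {s : Perm (Fin 8)} (h : ∀ i, τ (e i) = e (s i)) :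
    τ.support.card = s.support.card + (τ.support.filter fun x => x ∉ Set.range e).card := by
  classical
  rw [← Finset.card_filter_add_card_filter_not (s := τ.support) (fun x => x ∈ Set.range e)]
  congr 1
  rw [← Finset.card_map e]
  congr 1
  ext x
  simp only [Finset.mem_filter, Perm.mem_support, Set.mem_range, Finset.mem_map]
  constructor
  · rintro ⟨h1, i, rfl⟩
    exact ⟨i, fun h2 => h1 (by rw [h, h2]), rfl⟩
  · rintro ⟨i, hi, rfl⟩
    exact ⟨fun h2 => hi (e.injective (by rw [← h, h2])), i, rfl⟩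

theorem card_support_V (e : Fin 8 ↪ α) (s : Perm (Fin 8)) : (V e s).support.card = s.support.card := by
  rw [card_support_emb e (V_apply e s)]
  have : ((V e s).support.filter fun x => x ∉ Set.range e) = ∅ := by
    rw [Finset.filter_eq_empty_iff]
    intro x hx hx'
    exact (Perm.mem_support.1 hx) (V_apply_of_notMem e s hx')
  rw [this, Finset.card_empty, add_zero]

/-- If `σ` acts on the eight letters as `s` and `s * w` moves as many letters as `s`, then `σ * V w` moves as many
points as `σ`. -/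
theorem card_support_mul (e : Fin 8 ↪ α) {σ : Perm α} {s w : Perm (Fin 8)} (h : ∀ i, σ (e i) = e (s i))
    (hc : (s * w).support.card = s.support.card) : (σ * V e w).support.card = σ.support.card := by
  classical
  have h' : ∀ i, (σ * V e w) (e i) = e ((s * w) i) := by
    intro i
    rw [Perm.mul_apply, V_apply, h, Perm.mul_apply]
  rw [card_support_emb e h, card_support_emb e h', hc]
  congr 2
  ext x
  simp only [Finset.mem_filter, Perm.mem_support]
  constructor
  · rintro ⟨h1, h2⟩
    rw [Perm.mul_apply, V_apply_of_notMem e w h2] at h1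
    exact ⟨h1, h2⟩
  · rintro ⟨h1, h2⟩
    refine ⟨?_, h2⟩
    rw [Perm.mul_apply, V_apply_of_notMem e w h2]
    exact h1

theorem comm_V (e : Fin 8 ↪ α) {σ : Perm α} {s w : Perm (Fin 8)} (h : ∀ i, σ (e i) = e (s i))
    (hc : s * w = w * s) : σ * V e w = V e w * σ := by
  ext x
  rw [Perm.mul_apply, Perm.mul_apply]
  by_cases hx : x ∈ Set.range e
  · obtain ⟨i, rfl⟩ := hx
    rw [V_apply, h, h, V_apply, ← Perm.mul_apply, hc, Perm.mul_apply]
  · have hx' : σ x ∉ Set.range e := by
      rintro ⟨i, hi⟩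
      apply hx
      refine ⟨s⁻¹ i, σ.injective ?_⟩
      rw [h, ← Perm.mul_apply, mul_inv_cancel, Perm.one_apply, hi]
    rw [V_apply_of_notMem e w hx, V_apply_of_notMem e w hx']

/-! ### The choice of the letters -/

theorem exists_moved (σ : Perm α) (S : Finset α) (hS : S.card < σ.support.card) : ∃ a, σ a ≠ a ∧ a ∉ S := by
  obtain ⟨a, ha, ha'⟩ := Finset.exists_mem_notMem_of_card_lt_card hS
  exact ⟨a, Perm.mem_support.1 ha, ha'⟩

theorem exists_fixed (σ : Perm α) (S : Finset α) (hS : σ.support.card + S.card < Fintype.card α) :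
    ∃ a, σ a = a ∧ a ∉ S := by
  by_contra hcon
  push Not at hcon
  have h1 : (Finset.univ : Finset α) ⊆ σ.support ∪ S := by
    intro x _
    by_cases hx : σ x = x
    · exact Finset.mem_union_right _ (hcon x hx)
    · exact Finset.mem_union_left _ (Perm.mem_support.2 hx)
  have h2 := Finset.card_le_card h1
  have h3 := Finset.card_union_le σ.support S
  rw [Finset.card_univ] at h2
  omega

theorem step {σ : Perm α} (hσ : ∀ x, σ (σ x) = x) {l : List α} (hl : l.Nodup) (hc : ∀ x ∈ l, σ x ∈ l)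
    (hm : ∀ x ∈ l, σ x ≠ x) (hcard : l.length < σ.support.card) :
    ∃ a, (a :: σ a :: l).Nodup ∧ (∀ x ∈ a :: σ a :: l, σ x ∈ a :: σ a :: l) ∧ (∀ x ∈ a :: σ a :: l, σ x ≠ x) := by
  obtain ⟨a, ha, ha'⟩ := exists_moved σ l.toFinset (lt_of_le_of_lt (List.toFinset_card_le l) hcard)
  rw [List.mem_toFinset] at ha'
  have hb' : σ a ∉ l := fun h => ha' (by have := hc _ h; rwa [hσ] at this)
  refine ⟨a, ?_, ?_, ?_⟩
  · rw [List.nodup_cons, List.nodup_cons]
    refine ⟨?_, hb', hl⟩
    rw [List.mem_cons, not_or]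
    exact ⟨ha.symm, ha'⟩
  · intro x hx
    rw [List.mem_cons, List.mem_cons] at hx
    rcases hx with rfl | rfl | hx
    · simp
    · rw [hσ]; simp
    · simp [hc x hx]
  · intro x hx
    rw [List.mem_cons, List.mem_cons] at hx
    rcases hx with rfl | rfl | hx
    · exact ha
    · rw [hσ]; exact ha.symm
    · exact hm x hx

/-- the letters of a list of length 8 without repetitions -/
def emb (l : List α) (hl : l.Nodup) (h8 : l.length = 8) : Fin 8 ↪ α :=
  ⟨fun i => l.get (i.cast h8.symm), fun i j h => by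
    have := (List.nodup_iff_injective_get.1 hl) h
    exact Fin.cast_injective _ this⟩

/-- The letters: four blocks; or two fixed points and three blocks; or four fixed points and two blocks. -/
theorem exists_letters {σ : Perm α} (h2 : σ * σ = 1) (h8 : 8 ≤ Fintype.card α)
    (h4 : Fintype.card α ≤ σ.support.card + 4) : ∃ e : Fin 8 ↪ α, e 5 = σ (e 4) ∧ e 7 = σ (e 6) ∧
      ((e 1 = σ (e 0) ∧ e 3 = σ (e 2)) ∨
        (σ.support.card < 8 ∧ σ (e 0) = e 0 ∧ σ (e 1) = e 1 ∧ e 3 = σ (e 2)) ∨
        (σ.support.card < 8 ∧ σ (e 0) = e 0 ∧ σ (e 1) = e 1 ∧ σ (e 2) = e 2 ∧ σ (e 3) = e 3)) := by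
  have hσ : ∀ x, σ (σ x) = x := fun x => by rw [← Perm.mul_apply, h2]; rfl
  obtain ⟨a, n1, c1, m1⟩ := step hσ (l := []) List.nodup_nil (by simp) (by simp) (by show 0 < _; omega)
  obtain ⟨b, n2, c2, m2⟩ := step hσ n1 c1 m1 (by show 2 < _; omega)
  by_cases h5 : 4 < σ.support.card
  · obtain ⟨c, n3, c3, m3⟩ := step hσ n2 c2 m2 (by simpa using h5)
    by_cases h7 : 6 < σ.support.card
    · obtain ⟨d, n4, c4, m4⟩ := step hσ n3 c3 m3 (by simpa using h7)
      exact ⟨emb _ n4 rfl, rfl, rfl, Or.inl ⟨rfl, rfl⟩⟩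
    · obtain ⟨p, hp, -⟩ := exists_fixed σ ∅ (by simp; omega)
      obtain ⟨q, hq, hqp⟩ := exists_fixed σ {p} (by simp; omega)
      have n4 : (p :: q :: c :: σ c :: b :: σ b :: a :: σ a :: []).Nodup := by
        rw [List.nodup_cons, List.nodup_cons]
        refine ⟨?_, fun h => m3 _ h hq, n3⟩
        rw [List.mem_cons, not_or]
        refine ⟨fun h => hqp (by rw [h]; simp), fun h => m3 _ h hp⟩
      exact ⟨emb _ n4 rfl, rfl, rfl, Or.inr (Or.inl ⟨by omega, hp, hq, rfl⟩)⟩
  · obtain ⟨p, hp, -⟩ := exists_fixed σ ∅ (by simp; omega)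
    obtain ⟨q, hq, hqp⟩ := exists_fixed σ {p} (by simp; omega)
    obtain ⟨r, hr, hr'⟩ := exists_fixed σ {p, q} (by
      have := Finset.card_le_two (a := p) (b := q); omega)
    obtain ⟨s, hs, hs'⟩ := exists_fixed σ {p, q, r} (by
      have := Finset.card_le_three (a := p) (b := q) (c := r); omega)
    simp only [Finset.mem_insert, Finset.mem_singleton, not_or] at hqp hr' hs'
    have n4 : (p :: q :: r :: s :: b :: σ b :: a :: σ a :: []).Nodup := by
      rw [List.nodup_cons, List.nodup_cons, List.nodup_cons, List.nodup_cons]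
      refine ⟨?_, ?_, ?_, fun h => m2 _ h hs, n2⟩
      · simp only [List.mem_cons, not_or]
        refine ⟨fun h => hqp h.symm, fun h => hr'.1 h.symm, fun h => hs'.1 h.symm, ?_⟩
        have : ¬ (p ∈ [b, σ b, a, σ a]) := fun h => m2 p h hp
        simpa only [List.mem_cons, not_or] using this
      · simp only [List.mem_cons, not_or]
        refine ⟨fun h => hr'.2 h.symm, fun h => hs'.2.1 h.symm, ?_⟩
        have : ¬ (q ∈ [b, σ b, a, σ a]) := fun h => m2 q h hq
        simpa only [List.mem_cons, not_or] using this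
      · simp only [List.mem_cons, not_or]
        refine ⟨fun h => hs'.2.2 h.symm, ?_⟩
        have : ¬ (r ∈ [b, σ b, a, σ a]) := fun h => m2 r h hr
        simpa only [List.mem_cons, not_or] using this
    exact ⟨emb _ n4 rfl, rfl, rfl, Or.inr (Or.inr ⟨by omega, hp, hq, hr, hs⟩)⟩

/-! ### The lifts -/

variable {C : Type*} [Group C] (K : Cover α C)

theorem V_disjoint (e : Fin 8 ↪ α) {s s' : Perm (Fin 8)} (h : s.Disjoint s') : (V e s).Disjoint (V e s') := by
  intro x
  by_cases hx : x ∈ Set.range e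
  · obtain ⟨i, rfl⟩ := hx
    rw [V_apply, V_apply]
    exact (h i).imp (fun h => by rw [h]) (fun h => by rw [h])
  · left
    exact V_apply_of_notMem e s hx

theorem π_D' (e : Fin 8 ↪ α) {i j k l : Fin 8} (h : [i, j, k, l].Nodup) :
    K.π (D K (e i) (e j) (e k) (e l)) = V e (swap i j * swap k l) := by
  simp only [List.nodup_cons, List.mem_cons, List.not_mem_nil, or_false, not_or, not_false_eq_true, List.nodup_nil,
    and_true] at h
  obtain ⟨⟨h1, h2, h3⟩, ⟨h4, h5⟩, h6⟩ := h
  rw [π_D K (e.injective.ne h1) (e.injective.ne h2) (e.injective.ne h3) (e.injective.ne h4) (e.injective.ne h6)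
    (e.injective.ne h5), map_mul, V_swap, V_swap]

/-- Two elements whose images contain crossing double transpositions anticommute. -/
theorem anti (e : Fin 8 ↪ α) {i j k l m n p q : Fin 8} (h1 : [i, j, k, l].Nodup) (h2 : [m, n, p, q].Nodup)
    (hd : (swap i k * swap j l : Perm (Fin 8)).Disjoint (swap m n * swap p q)) {w h : C}
    (hw : K.π w = V e (swap i j * swap k l * (swap m n * swap p q))) (hh : K.π h = V e (swap i k * swap j l)) :
    h * w = w * h * K.z := by
  have e1 := π_D' K e h1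
  have e2 := π_D' K e h2
  set W1 := D K (e i) (e j) (e k) (e l) with hW1
  set W2 := D K (e m) (e n) (e p) (e q) with hW2
  have hcomm : h * W2 = W2 * h := K.commute_of_disjoint (by rw [hh, e2]; exact V_disjoint e hd)
  have hanti : h * W1 = W1 * h * K.z := by
    have h1' := h1
    simp only [List.nodup_cons, List.mem_cons, List.not_mem_nil, or_false, not_or, not_false_eq_true,
      List.nodup_nil, and_true] at h1'
    obtain ⟨⟨a1, a2, a3⟩, ⟨a4, a5⟩, a6⟩ := h1'
    refine K.anticomm (a := e i) (b := e j) (c := e k) (d := e l) (e.injective.ne a1) (e.injective.ne a2)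
      (e.injective.ne a3) (e.injective.ne a4) (e.injective.ne a5) (e.injective.ne a6) ?_ ?_
    · rw [e1, map_mul, V_swap, V_swap]
    · rw [hh, map_mul, V_swap, V_swap]
  have key : h * (W1 * W2) = W1 * W2 * h * K.z := by
    rw [← mul_assoc, hanti, mul_assoc (W1 * h), ← K.z_comm W2, ← mul_assoc, mul_assoc W1, hcomm]
    group
  have h3 : K.π w = K.π (W1 * W2) := by rw [hw, map_mul K.π, e1, e2, ← map_mul]
  rcases K.lift_eq h3 with h4 | h4
  · rw [h4, key]
  · rw [h4, ← mul_assoc h, key, mul_assoc (W1 * W2) K.z h, ← K.z_comm h, ← mul_assoc (W1 * W2)]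

section Auto

variable {f : C →* C} {σ : Perm α}

/-- (A1), first part: an element inverted modulo `z`. -/
theorem exists_anti (hf : ∀ g, K.π (f g) = σ * K.π g * σ⁻¹) (h2 : σ * σ = 1) {a c : α} (ha : σ a ≠ a)
    (hc : σ c ≠ c) (hca : c ≠ a) (hcb : c ≠ σ a) : ∃ h, f h = h * K.z := by
  have hσ : ∀ x, σ (σ x) = x := fun x => by rw [← Perm.mul_apply, h2]; rfl
  have h1 : a ≠ σ c := fun h => hcb (by rw [h, hσ])
  have h3 : σ a ≠ σ c := fun h => hca (σ.injective h).symm
  refine ⟨D K a c (σ a) (σ c), ?_⟩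
  rw [map_D K hf hca.symm ha.symm h1 hcb h3, hσ, hσ, D_swap K hca.symm ha.symm h1 hcb h3 hc.symm]

/-- (A1), second part: a fixed square root of `z`. -/
theorem fix_block (hf : ∀ g, K.π (f g) = σ * K.π g * σ⁻¹) (h2 : σ * σ = 1) {a c : α} (ha : σ a ≠ a)
    (hc : σ c ≠ c) (hca : c ≠ a) (hcb : c ≠ σ a) : f (D K a (σ a) c (σ c)) = D K a (σ a) c (σ c) := by
  have hσ : ∀ x, σ (σ x) = x := fun x => by rw [← Perm.mul_apply, h2]; rfl
  have h1 : a ≠ σ c := fun h => hcb (by rw [h, hσ])
  have h3 : σ a ≠ σ c := fun h => hca (σ.injective h).symm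
  rw [map_D K hf ha.symm hca.symm h1 hcb.symm hc.symm, hσ, hσ,
    D_flip K ha.symm hca.symm h1 hcb.symm hc.symm h3]

theorem exists_root (hf : ∀ g, K.π (f g) = σ * K.π g * σ⁻¹) (h2 : σ * σ = 1) {a c : α} (ha : σ a ≠ a)
    (hc : σ c ≠ c) (hca : c ≠ a) (hcb : c ≠ σ a) : ∃ q, f q = q ∧ q * q = K.z := by
  have hσ : ∀ x, σ (σ x) = x := fun x => by rw [← Perm.mul_apply, h2]; rfl
  have h1 : a ≠ σ c := fun h => hcb (by rw [h, hσ])
  have h3 : σ a ≠ σ c := fun h => hca (σ.injective h).symm
  exact ⟨_, fix_block K hf h2 ha hc hca hcb, D_sq K ha.symm hca.symm h1 hcb.symm hc.symm h3⟩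

/-- The element `w = f r * r⁻¹` over a prescribed involution commuting with `σ`. -/
theorem exists_w (hf : ∀ g, K.π (f g) = σ * K.π g * σ⁻¹) (h2 : σ * σ = 1) (h1 : σ ≠ 1) {τ : Perm α}
    (hτ : τ * τ = 1) (hcomm : σ * τ = τ * σ) (hc : (σ * τ).support.card = σ.support.card) :
    ∃ r, K.π (f r * r⁻¹) = τ := by
  obtain ⟨ρ, hρ, e⟩ := Cfsg.Agent.StandardComponent.CoverExtra.exists_even_conj (σ := σ) (τ := σ * τ) h2
    (by rw [mul_assoc, ← mul_assoc τ, ← hcomm, mul_assoc σ τ τ, hτ, mul_one, h2]) h1 hc.symm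
  obtain ⟨r, rfl⟩ := K.exists_lift hρ
  refine ⟨r, ?_⟩
  have hσi : σ⁻¹ = σ := inv_eq_of_mul_eq_one_left h2
  have hτi : τ⁻¹ = τ := inv_eq_of_mul_eq_one_left hτ
  rw [map_mul, map_inv, hf]
  calc σ * K.π r * σ⁻¹ * (K.π r)⁻¹ = σ * (K.π r * σ * (K.π r)⁻¹)⁻¹ := by group
    _ = σ * (τ⁻¹ * σ⁻¹) := by rw [e]; group
    _ = τ := by rw [hτi, hσi, ← mul_assoc, hcomm, mul_assoc, h2, mul_one]

/-! ### Block rotations -/

/-- the rotation of three blocks of `σ` -/
noncomputable def R (σ : Perm α) (a b c : α) : C := t K a b c * t K (σ a) (σ b) (σ c)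

theorem R_fix (hf : ∀ g, K.π (f g) = σ * K.π g * σ⁻¹) (hσ : ∀ x, σ (σ x) = x) {a b c : α} (hab : a ≠ b)
    (hac : a ≠ c) (hbc : b ≠ c) (hcomm : t K a b c * t K (σ a) (σ b) (σ c) = t K (σ a) (σ b) (σ c) * t K a b c) :
    f (R K σ a b c) = R K σ a b c := by
  unfold R
  rw [map_mul, map_t K hf hab hac hbc,
    map_t K hf (σ.injective.ne hab) (σ.injective.ne hac) (σ.injective.ne hbc), hσ, hσ, hσ, hcomm]

theorem R_cube {a b c : α} (hcomm : t K a b c * t K (σ a) (σ b) (σ c) = t K (σ a) (σ b) (σ c) * t K a b c) :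
    R K σ a b c ^ 3 = 1 := by
  unfold R
  rw [Commute.mul_pow hcomm, t_cube, t_cube, one_mul]

theorem π_t' (e : Fin 8 ↪ α) {i j k : Fin 8} (h : [i, j, k].Nodup) :
    K.π (t K (e i) (e j) (e k)) = V e (swap i j * swap j k) := by
  simp only [List.nodup_cons, List.mem_cons, List.not_mem_nil, or_false, not_or, not_false_eq_true, List.nodup_nil,
    and_true] at h
  obtain ⟨⟨h1, h2⟩, h3⟩ := h
  rw [π_t K (e.injective.ne h1) (e.injective.ne h2) (e.injective.ne h3), map_mul, V_swap, V_swap]

/-- The subgroup generated by the fixed elements of order 3. -/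
def T (f : C →* C) : Subgroup C := Subgroup.closure {x | f x = x ∧ x ^ 3 = 1}

theorem R_mem (hf : ∀ g, K.π (f g) = σ * K.π g * σ⁻¹) (hσ : ∀ x, σ (σ x) = x) (e : Fin 8 ↪ α)
    {i j k i' j' k' : Fin 8} (h : [i, j, k].Nodup) (h' : [i', j', k'].Nodup)
    (hd : (swap i j * swap j k : Perm (Fin 8)).Disjoint (swap i' j' * swap j' k'))
    (hi : σ (e i) = e i') (hj : σ (e j) = e j') (hk : σ (e k) = e k') :
    R K σ (e i) (e j) (e k) ∈ T f ∧
      K.π (R K σ (e i) (e j) (e k)) = V e (swap i j * swap j k * (swap i' j' * swap j' k')) := by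
  have hcomm : t K (e i) (e j) (e k) * t K (σ (e i)) (σ (e j)) (σ (e k)) =
      t K (σ (e i)) (σ (e j)) (σ (e k)) * t K (e i) (e j) (e k) := by
    rw [hi, hj, hk]
    apply K.commute_of_disjoint
    rw [π_t' K e h, π_t' K e h']
    exact V_disjoint e hd
  have h1 := h
  simp only [List.nodup_cons, List.mem_cons, List.not_mem_nil, or_false, not_or, not_false_eq_true, List.nodup_nil,
    and_true] at h1
  obtain ⟨⟨h1, h2⟩, h3⟩ := h1
  refine ⟨Subgroup.subset_closure ⟨R_fix K hf hσ (e.injective.ne h1) (e.injective.ne h2) (e.injective.ne h3) hcomm,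
    R_cube K hcomm⟩, ?_⟩
  unfold R
  rw [map_mul, hi, hj, hk, π_t' K e h, π_t' K e h', ← map_mul]

/-- The central involution is in the subgroup generated by the fixed elements of order 3, if there are three
blocks. -/
theorem z_mem_T (hf : ∀ g, K.π (f g) = σ * K.π g * σ⁻¹) (hσ : ∀ x, σ (σ x) = x) (e : Fin 8 ↪ α)
    (h01 : σ (e 0) = e 1) (h23 : σ (e 2) = e 3) (h45 : σ (e 4) = e 5) : K.z ∈ T f := by
  have h10 : σ (e 1) = e 0 := by rw [← h01, hσ]
  obtain ⟨m1, p1⟩ := R_mem K hf hσ e (i := 0) (j := 2) (k := 4) (i' := 1) (j' := 3) (k' := 5) (by decide)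
    (by decide) (by intro x; revert x; decide) h01 h23 h45
  obtain ⟨m2, p2⟩ := R_mem K hf hσ e (i := 1) (j := 2) (k := 4) (i' := 0) (j' := 3) (k' := 5) (by decide)
    (by decide) (by intro x; revert x; decide) h10 h23 h45
  have h : K.π (R K σ (e 0) (e 2) (e 4) * (R K σ (e 1) (e 2) (e 4))⁻¹) = V e (swap 0 1 * swap 2 3) := by
    rw [map_mul, map_inv, p1, p2, ← map_inv, ← map_mul]
    congr 1
    decide
  have hsq := K.dbl (e 0) (e 1) (e 2) (e 3) (e.injective.ne (by decide)) (e.injective.ne (by decide))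
    (e.injective.ne (by decide)) (e.injective.ne (by decide)) (e.injective.ne (by decide))
    (e.injective.ne (by decide)) _ (by rw [h, map_mul, V_swap, V_swap])
  rw [← hsq]
  have m3 := mul_mem m1 (inv_mem m2)
  exact mul_mem m3 m3

/-- Every element over the standard involution of four blocks is generated by fixed elements of order 3. -/
theorem mem_T (hf : ∀ g, K.π (f g) = σ * K.π g * σ⁻¹) (hσ : ∀ x, σ (σ x) = x) (e : Fin 8 ↪ α)
    (h01 : σ (e 0) = e 1) (h23 : σ (e 2) = e 3) (h45 : σ (e 4) = e 5) (h67 : σ (e 6) = e 7) {w : C}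
    (hw : K.π w = V e (swap 0 3 * swap 1 2 * (swap 4 7 * swap 5 6))) : w ∈ T f := by
  have h32 : σ (e 3) = e 2 := by rw [← h23, hσ]
  have h76 : σ (e 7) = e 6 := by rw [← h67, hσ]
  obtain ⟨m1, p1⟩ := R_mem K hf hσ e (i := 0) (j := 4) (k := 3) (i' := 1) (j' := 5) (k' := 2) (by decide)
    (by decide) (by intro x; revert x; decide) h01 h45 h32
  obtain ⟨m2, p2⟩ := R_mem K hf hσ e (i := 0) (j := 4) (k := 7) (i' := 1) (j' := 5) (k' := 6) (by decide)
    (by decide) (by intro x; revert x; decide) h01 h45 h76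
  have h : K.π w = K.π (R K σ (e 0) (e 4) (e 3) * R K σ (e 0) (e 4) (e 7)) := by
    rw [hw, map_mul K.π, p1, p2, ← map_mul]
    congr 1
    decide
  rcases K.lift_eq h with h | h
  · rw [h]; exact mul_mem m1 m2
  · rw [h]; exact mul_mem (mul_mem m1 m2) (z_mem_T K hf hσ e h01 h23 h45)

/-- (A1) for an involutory automorphism `f` of a double cover of an alternating group. -/
theorem main (hf : ∀ g, K.π (f g) = σ * K.π g * σ⁻¹) (hff : ∀ g, f (f g) = g) (h2 : σ * σ = 1)
    (h8 : 8 ≤ Fintype.card α) (h4 : Fintype.card α ≤ σ.support.card + 4) :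
    (∃ h, f h = h * K.z) ∧ (∃ q, f q = q ∧ q * q = K.z) ∧
      ∃ w r h, w = f r * r⁻¹ ∧ w * w = 1 ∧ (K.π w).support.card = 8 ∧ f w = w ∧ f h = h ∧ h * w = w * h * K.z ∧
        (8 ≤ σ.support.card → w ∈ T f) := by
  have hσ : ∀ x, σ (σ x) = x := fun x => by rw [← Perm.mul_apply, h2]; rfl
  have h1 : σ ≠ 1 := by
    rintro rfl
    rw [Perm.support_one, Finset.card_empty] at h4
    omega
  obtain ⟨e, h45, h67, hcase⟩ := exists_letters h2 h8 h4
  have n4 : σ (e 4) ≠ e 4 := by rw [← h45]; exact e.injective.ne (by decide)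
  have n6 : σ (e 6) ≠ e 6 := by rw [← h67]; exact e.injective.ne (by decide)
  have n64 : e 6 ≠ e 4 := e.injective.ne (by decide)
  have n65 : e 6 ≠ σ (e 4) := by rw [← h45]; exact e.injective.ne (by decide)
  refine ⟨exists_anti K hf h2 n4 n6 n64 n65, exists_root K hf h2 n4 n6 n64 n65, ?_⟩
  -- the common end
  have key : ∀ (s w0 : Perm (Fin 8)), (∀ i, σ (e i) = e (s i)) → s * w0 = w0 * s → w0 * w0 = 1 →
      (s * w0).support.card = s.support.card → w0.support.card = 8 →
      ∃ r, K.π (f r * r⁻¹) = V e w0 ∧ (f r * r⁻¹) * (f r * r⁻¹) = 1 ∧ (K.π (f r * r⁻¹)).support.card = 8 ∧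
        f (f r * r⁻¹) = f r * r⁻¹ := by
    intro s w0 hs hsw hww hsc hwc
    obtain ⟨r, hr⟩ := exists_w K hf h2 h1 (τ := V e w0) (by rw [← map_mul, hww, map_one]) (comm_V e hs hsw)
      (card_support_mul e hs hsc)
    have hsup : (K.π (f r * r⁻¹)).support.card = 8 := by rw [hr, card_support_V, hwc]
    have hsq : (f r * r⁻¹) * (f r * r⁻¹) = 1 := K.sq_eq_one_iff.2
      ⟨by rw [hr, ← map_mul, hww, map_one], by rw [hsup]⟩
    refine ⟨r, hr, hsq, hsup, ?_⟩
    have h5 : f (f r * r⁻¹) = (f r * r⁻¹)⁻¹ := by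
      rw [map_mul, map_inv, hff, mul_inv_rev, inv_inv]
    rw [h5]
    exact inv_eq_of_mul_eq_one_left hsq
  rcases hcase with ⟨h01, h23⟩ | ⟨hlt, h0, h1', h23⟩ | ⟨hlt, h0, h1', h2', h3'⟩
  · -- four blocks
    have hs : ∀ i, σ (e i) = e ((swap 0 1 * swap 2 3 * (swap 4 5 * swap 6 7) : Perm (Fin 8)) i) := by
      intro i
      fin_cases i
      · exact h01.symm
      · show σ (e 1) = e 0; rw [h01, hσ]
      · exact h23.symm
      · show σ (e 3) = e 2; rw [h23, hσ]
      · exact h45.symm
      · show σ (e 5) = e 4; rw [h45, hσ]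
      · exact h67.symm
      · show σ (e 7) = e 6; rw [h67, hσ]
    obtain ⟨r, p1, p2, p3, p4⟩ := key _ (swap 0 3 * swap 1 2 * (swap 4 7 * swap 5 6)) hs (by decide) (by decide)
      (by decide) (by decide)
    refine ⟨_, r, D K (e 0) (e 1) (e 3) (e 2), rfl, p2, p3, p4, ?_, ?_, fun _ => ?_⟩
    · have h32 : σ (e 3) = e 2 := by rw [h23, hσ]
      have := fix_block K hf h2 (a := e 0) (c := e 3) (by rw [← h01]; exact e.injective.ne (by decide))
        (by rw [h32]; exact e.injective.ne (by decide)) (e.injective.ne (by decide))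
        (by rw [← h01]; exact e.injective.ne (by decide))
      rwa [← h01, h32] at this
    · apply anti K e (i := 0) (j := 3) (k := 1) (l := 2) (m := 4) (n := 7) (p := 5) (q := 6) (by decide) (by decide)
        (by intro x; revert x; decide) p1
      rw [π_D' K e (by decide)]
      
    · exact mem_T K hf hσ e h01.symm h23.symm h45.symm h67.symm p1
  · -- three blocks
    have hs : ∀ i, σ (e i) = e ((swap 2 3 * (swap 4 5 * swap 6 7) : Perm (Fin 8)) i) := by
      intro i
      fin_cases i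
      · exact h0
      · exact h1'
      · exact h23.symm
      · show σ (e 3) = e 2; rw [h23, hσ]
      · exact h45.symm
      · show σ (e 5) = e 4; rw [h45, hσ]
      · exact h67.symm
      · show σ (e 7) = e 6; rw [h67, hσ]
    obtain ⟨r, p1, p2, p3, p4⟩ := key _ (swap 2 5 * swap 3 4 * (swap 6 7 * swap 0 1)) hs (by decide) (by decide)
      (by decide) (by decide)
    refine ⟨_, r, D K (e 2) (e 3) (e 5) (e 4), rfl, p2, p3, p4, ?_, ?_, fun h => absurd h (by omega)⟩
    · have h54 : σ (e 5) = e 4 := by rw [h45, hσ]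
      have := fix_block K hf h2 (a := e 2) (c := e 5) (by rw [← h23]; exact e.injective.ne (by decide))
        (by rw [h54]; exact e.injective.ne (by decide)) (e.injective.ne (by decide))
        (by rw [← h23]; exact e.injective.ne (by decide))
      rwa [← h23, h54] at this
    · apply anti K e (i := 2) (j := 5) (k := 3) (l := 4) (m := 6) (n := 7) (p := 0) (q := 1) (by decide) (by decide)
        (by intro x; revert x; decide) p1
      rw [π_D' K e (by decide)]
  · -- two blocks
    have hs : ∀ i, σ (e i) = e ((swap 4 5 * swap 6 7 : Perm (Fin 8)) i) := by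
      intro i
      fin_cases i
      · exact h0
      · exact h1'
      · exact h2'
      · exact h3'
      · exact h45.symm
      · show σ (e 5) = e 4; rw [h45, hσ]
      · exact h67.symm
      · show σ (e 7) = e 6; rw [h67, hσ]
    obtain ⟨r, p1, p2, p3, p4⟩ := key _ (swap 0 1 * swap 2 3 * (swap 4 5 * swap 6 7)) hs (by decide) (by decide)
      (by decide) (by decide)
    refine ⟨_, r, D K (e 0) (e 2) (e 1) (e 3), rfl, p2, p3, p4, ?_, ?_, fun h => absurd h (by omega)⟩
    · rw [map_D K hf (e.injective.ne (by decide)) (e.injective.ne (by decide)) (e.injective.ne (by decide))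
        (e.injective.ne (by decide)) (e.injective.ne (by decide)), h0, h1', h2', h3']
    · apply anti K e (i := 0) (j := 1) (k := 2) (l := 3) (m := 4) (n := 5) (p := 6) (q := 7) (by decide) (by decide)
        (by intro x; revert x; decide) p1
      rw [π_D' K e (by decide)]

/-- (A2), first half: the fixed elements contain a quaternion group with centre `z`. -/
theorem exists_quat (hf : ∀ g, K.π (f g) = σ * K.π g * σ⁻¹) (h2 : σ * σ = 1)
    (h8 : 8 ≤ Fintype.card α) (h4 : Fintype.card α ≤ σ.support.card + 4) :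
    ∃ a b, f a = a ∧ f b = b ∧ a * a = K.z ∧ b * b = K.z ∧ b * a = a * b * K.z := by
  have hσ : ∀ x, σ (σ x) = x := fun x => by rw [← Perm.mul_apply, h2]; rfl
  obtain ⟨e, h45, h67, hcase⟩ := exists_letters h2 h8 h4
  -- three blocks
  have key : ∀ i j : Fin 8, e j = σ (e i) → (i = 2 ∧ j = 3) → ∃ a b, f a = a ∧ f b = b ∧ a * a = K.z ∧
      b * b = K.z ∧ b * a = a * b * K.z := by
    rintro _ _ h23 ⟨rfl, rfl⟩
    have f1 := fix_block K hf h2 (a := e 2) (c := e 4) (by rw [← h23]; exact e.injective.ne (by decide))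
      (by rw [← h45]; exact e.injective.ne (by decide)) (e.injective.ne (by decide))
      (by rw [← h23]; exact e.injective.ne (by decide))
    have f2 := fix_block K hf h2 (a := e 4) (c := e 6) (by rw [← h45]; exact e.injective.ne (by decide))
      (by rw [← h67]; exact e.injective.ne (by decide)) (e.injective.ne (by decide))
      (by rw [← h45]; exact e.injective.ne (by decide))
    rw [← h23, ← h45] at f1
    rw [← h45, ← h67] at f2
    have p1 := π_D' K e (i := 2) (j := 3) (k := 4) (l := 5) (by decide)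
    have p2 := π_D' K e (i := 4) (j := 5) (k := 6) (l := 7) (by decide)
    have s1 := K.dbl (e 2) (e 3) (e 4) (e 5) (e.injective.ne (by decide)) (e.injective.ne (by decide))
      (e.injective.ne (by decide)) (e.injective.ne (by decide)) (e.injective.ne (by decide))
      (e.injective.ne (by decide)) _ (by rw [p1, map_mul, V_swap, V_swap])
    have s2 := K.dbl (e 4) (e 5) (e 6) (e 7) (e.injective.ne (by decide)) (e.injective.ne (by decide))
      (e.injective.ne (by decide)) (e.injective.ne (by decide)) (e.injective.ne (by decide))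
      (e.injective.ne (by decide)) _ (by rw [p2, map_mul, V_swap, V_swap])
    set a := D K (e 2) (e 3) (e 4) (e 5)
    set b := D K (e 4) (e 5) (e 6) (e 7)
    have s3 := K.dbl (e 2) (e 3) (e 6) (e 7) (e.injective.ne (by decide)) (e.injective.ne (by decide))
      (e.injective.ne (by decide)) (e.injective.ne (by decide)) (e.injective.ne (by decide))
      (e.injective.ne (by decide)) (a * b) (by
        rw [map_mul, p1, p2, ← map_mul, ← V_swap, ← V_swap, ← map_mul]
        congr 1
        decide)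
    refine ⟨a, b, f1, f2, s1, s2, ?_⟩
    have e1 : a * (b * a) * b = K.z := by rw [← s3]; group
    have e3 : a⁻¹ = a * K.z := by rw [inv_eq_iff_mul_eq_one, ← mul_assoc, s1, K.z_mul_z]
    have e4 : b⁻¹ = b * K.z := by rw [inv_eq_iff_mul_eq_one, ← mul_assoc, s2, K.z_mul_z]
    have e2 : b * a = a⁻¹ * K.z * b⁻¹ := by rw [← e1]; group
    rw [e2, e3, e4, mul_assoc a, K.z_mul_z, mul_one, mul_assoc]
  rcases hcase with ⟨h01, h23⟩ | ⟨hlt, h0, h1', h23⟩ | ⟨hlt, h0, h1', h2', h3'⟩
  · exact key 2 3 h23 ⟨rfl, rfl⟩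
  · exact key 2 3 h23 ⟨rfl, rfl⟩
  · have p1 := π_D' K e (i := 0) (j := 1) (k := 2) (l := 3) (by decide)
    have p2 := π_D' K e (i := 0) (j := 2) (k := 1) (l := 3) (by decide)
    refine ⟨D K (e 0) (e 1) (e 2) (e 3), D K (e 0) (e 2) (e 1) (e 3), ?_, ?_, ?_, ?_, ?_⟩
    · rw [map_D K hf (e.injective.ne (by decide)) (e.injective.ne (by decide)) (e.injective.ne (by decide))
        (e.injective.ne (by decide)) (e.injective.ne (by decide)), h0, h1', h2', h3']
    · rw [map_D K hf (e.injective.ne (by decide)) (e.injective.ne (by decide)) (e.injective.ne (by decide))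
        (e.injective.ne (by decide)) (e.injective.ne (by decide)), h0, h1', h2', h3']
    · exact K.dbl (e 0) (e 1) (e 2) (e 3) (e.injective.ne (by decide)) (e.injective.ne (by decide))
        (e.injective.ne (by decide)) (e.injective.ne (by decide)) (e.injective.ne (by decide))
        (e.injective.ne (by decide)) _ (by rw [p1, map_mul, V_swap, V_swap])
    · exact K.dbl (e 0) (e 2) (e 1) (e 3) (e.injective.ne (by decide)) (e.injective.ne (by decide))
        (e.injective.ne (by decide)) (e.injective.ne (by decide)) (e.injective.ne (by decide))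
        (e.injective.ne (by decide)) _ (by rw [p2, map_mul, V_swap, V_swap])
    · exact K.anticomm (a := e 0) (b := e 1) (c := e 2) (d := e 3) (e.injective.ne (by decide)) (e.injective.ne (by decide)) (e.injective.ne (by decide))
        (e.injective.ne (by decide)) (e.injective.ne (by decide)) (e.injective.ne (by decide))
        (by rw [p1, map_mul, V_swap, V_swap]) (by rw [p2, map_mul, V_swap, V_swap])

end Auto

/-! ### The form with a group acting on the cover -/

section Act

variable {H : Type*} [Group H] {L : Subgroup H} (K : Cover α L) (φ : H →* Perm α)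

/-- conjugation by an element normalizing `L` -/
def cnj (L : Subgroup H) (v : H) (hv : ∀ x ∈ L, v * x * v⁻¹ ∈ L) : L →* L where
  toFun x := ⟨v * x * v⁻¹, hv x x.2⟩
  map_one' := Subtype.ext (by simp)
  map_mul' x y := Subtype.ext (by simp)

theorem cnj_coe (v : H) (hv : ∀ x ∈ L, v * x * v⁻¹ ∈ L) (x : L) : ((cnj L v hv x : L) : H) = v * x * v⁻¹ := rfl

/-- (A1) for an involution `v` of a group `H` acting on the cover `L`: the elements `h'`, `q`, `w`, `g`, `h`. -/
theorem exists_elements (hL : ∀ v : H, ∀ x ∈ L, v * x * v⁻¹ ∈ L) (hφ : ∀ x : L, φ x = K.π x)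
    (h8 : 8 ≤ Fintype.card α) {v : H} (hv : v * v = 1) (h4 : Fintype.card α ≤ (φ v).support.card + 4) :
    (∃ h ∈ L, h⁻¹ * v * h = v * K.z) ∧ (∃ q ∈ L, q * v = v * q ∧ q * q = (K.z : H)) ∧
      (∃ a ∈ L, ∃ b ∈ L, a * v = v * a ∧ b * v = v * b ∧ a * a = (K.z : H) ∧ b * b = (K.z : H) ∧
        b * a = a * b * K.z) ∧
      ∃ w ∈ L, ∃ g ∈ L, ∃ h ∈ L, w * w = 1 ∧ (φ w).support.card = 8 ∧ w * v = v * w ∧ g⁻¹ * v * g = v * w ∧
        h * v = v * h ∧ h⁻¹ * w * h = w * K.z ∧
        (8 ≤ (φ v).support.card → w ∈ Subgroup.closure {x | x ∈ L ∧ x * v = v * x ∧ x ^ 3 = 1}) := by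
  have hvi : v⁻¹ = v := inv_eq_of_mul_eq_one_left hv
  set f := cnj L v (hL v) with hfdef
  have hf : ∀ g, K.π (f g) = φ v * K.π g * (φ v)⁻¹ := by
    intro g
    rw [← hφ, cnj_coe, map_mul, map_mul, map_inv, hφ]
  have hff : ∀ g, f (f g) = g := by
    intro g
    apply Subtype.ext
    rw [cnj_coe, cnj_coe, hvi]
    calc v * (v * g * v) * v = (v * v) * g * (v * v) := by group
      _ = g := by rw [hv, one_mul, mul_one]
  have h2 : φ v * φ v = 1 := by rw [← map_mul, hv, map_one]
  have fixc : ∀ x : L, f x = x ↔ (x : H) * v = v * x := by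
    intro x
    rw [Subtype.ext_iff, cnj_coe, mul_inv_eq_iff_eq_mul, eq_comm]
  obtain ⟨⟨h', e1⟩, ⟨q, q1, q2⟩, w, r, h, w1, w2, w3, w4, w5, w6, w7⟩ := main K hf hff h2 h8 h4
  obtain ⟨a, b, a1, b1, a2, b2, ab⟩ := exists_quat K hf h2 h8 h4
  refine ⟨⟨h', h'.2, ?_⟩, ⟨q, q.2, (fixc q).1 q1, by simpa using congrArg Subtype.val q2⟩,
    ⟨a, a.2, b, b.2, (fixc a).1 a1, (fixc b).1 b1, by simpa using congrArg Subtype.val a2,
      by simpa using congrArg Subtype.val b2, by simpa using congrArg Subtype.val ab⟩,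
    w, w.2, (r⁻¹ : L), (r⁻¹ : L).2, h, h.2, ?_, ?_, (fixc w).1 w4, ?_, (fixc h).1 w5, ?_, ?_⟩
  · have e2 : v * h' * v⁻¹ = h' * K.z := by
      have := congrArg Subtype.val e1
      rwa [cnj_coe] at this
    have e3 : v * (h' : H) = h' * K.z * v := by rw [← e2]; group
    have e4 : (K.z : H) * v = v * K.z := by
      have := congrArg Subtype.val (map_z K hf (fun x y hxy => by
        have := congrArg f hxy
        rwa [hff, hff] at this))
      rw [cnj_coe, mul_inv_eq_iff_eq_mul] at this
      exact this.symm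
    calc (h' : H)⁻¹ * v * h' = (h' : H)⁻¹ * (v * h') := by group
      _ = (h' : H)⁻¹ * (h' * K.z * v) := by rw [e3]
      _ = K.z * v := by group
      _ = v * K.z := e4
  · simpa using congrArg Subtype.val w2
  · rw [hφ]; exact w3
  · have e2 : (w : H) = v * r * v⁻¹ * (r : H)⁻¹ := by
      have := congrArg Subtype.val w1
      rw [this]
      rfl
    rw [e2]
    calc ((r⁻¹ : L) : H)⁻¹ * v * ((r⁻¹ : L) : H) = r * v * (r : H)⁻¹ := by simp
      _ = (v * v) * r * v * (r : H)⁻¹ := by rw [hv, one_mul]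
      _ = v * (v * r * v⁻¹ * (r : H)⁻¹) := by rw [hvi]; group
  · have e2 : (h : H) * w = w * h * K.z := by simpa using congrArg Subtype.val w6
    have e5 : (K.z : H) * h = h * K.z := by
      have := congrArg Subtype.val (K.z_comm h)
      simpa using this.symm
    have e6 : (K.z : H) * K.z = 1 := by simpa using congrArg Subtype.val K.z_mul_z
    have e3 : (w : H) * h = h * w * K.z := by
      rw [e2, mul_assoc (w * h : H), e6, mul_one]
    calc (h : H)⁻¹ * w * h = (h : H)⁻¹ * (w * h) := by group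
      _ = (h : H)⁻¹ * (h * w * K.z) := by rw [e3]
      _ = w * K.z := by group
  · intro h8'
    have hmap : w ∈ T f := w7 h8'
    have hle : (T f).map L.subtype ≤ Subgroup.closure {x | x ∈ L ∧ x * v = v * x ∧ x ^ 3 = 1} := by
      unfold T
      rw [MonoidHom.map_closure]
      apply Subgroup.closure_mono
      rintro _ ⟨x, ⟨x1, x2⟩, rfl⟩
      exact ⟨x.2, (fixc x).1 x1, by simpa using congrArg Subtype.val x2⟩
    exact hle ⟨w, hmap, rfl⟩

end Act

/-- (A2), second half: in degree less than 16, the centre of a quaternion group of permutations moves exactly 8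
points. -/
theorem card_support_of_quat (h16 : Fintype.card α < 16) {G : Type*} [Group G] (ψ : G →* Perm α) {a b u : G}
    (ha : a * a = u) (hb : b * b = u) (hab : b * a = a * b * u) (hu : u * u = 1) (hne : ψ u ≠ 1) :
    (ψ u).support.card = 8 :=
  Cfsg.Agent.StandardComponent.AltQuat.card_support h16 (α := ψ a) (β := ψ b) (by rw [← map_mul, ha])
    (by rw [← map_mul, hb]) (by rw [← map_mul, hab, map_mul, map_mul]) (by rw [← map_mul, hu, map_one]) hne

end Cfsg.Agent.Intrinsic.AnTypes
end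

-- part: Intrinsic/AnThree
section
/-!
# (A3): a noncentral involution of `2.A_n` lies in no 2-component of its centralizer
-/

set_option autoImplicit false

open Cfsg Subgroup Equiv
open Cfsg.Agent.SporRec.TwoAn
open Cfsg.Agent.Intrinsic.Basic Cfsg.Agent.Intrinsic.AnLift
open Cfsg.Agent.SignalizersComponents
open scoped commutatorElement

namespace Cfsg.Agent.Intrinsic.AnThree

/-- A 2-component commutes with the normal 2-subgroups. -/
theorem comm_of_normal_two {G : Type*} [Group G] [Finite G] {H E R : Subgroup G} (hE : IsComp H E)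
    (hR : R ≤ H) (hn : H ≤ normalizer (R : Set G)) (h2 : IsPGroup 2 ↥R) {e r : G} (he : e ∈ E)
    (hr : r ∈ R) : e * r = r * e := by
  have hRn : (R.subgroupOf H).Normal := normal_subgroupOf_of_le_normalizer hn
  rcases hE.le_or_comm hR hRn.isSubnormal with h | h
  · exfalso
    have h3 : IsPGroup 2 ↥E := h2.to_le h
    have : Fact (Nat.Prime 2) := ⟨Nat.prime_two⟩
    have h4 : Group.IsNilpotent ↥E := h3.isNilpotent
    have h5 : Group.IsSolvable ↥E := inferInstance
    have h6 : Nontrivial ↥E := (Subgroup.nontrivial_iff_ne_bot E).mpr hE.ne_bot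
    have h7 := Group.IsSolvable.commutator_lt_top_of_nontrivial ↥E
    apply h7.ne
    have h8 := hE.perfect
    have h9 : (_root_.commutator ↥E).map E.subtype = (⊤ : Subgroup ↥E).map E.subtype := by
      rw [_root_.commutator_def, Subgroup.map_commutator, ← MonoidHom.range_eq_map, Subgroup.range_subtype]
      exact h8
    exact Subgroup.map_injective E.subtype_injective h9
  · have h3 : ⁅e, r⁆ ∈ core H := h (commutator_mem_commutator he hr)
    have h4 : ⁅e, r⁆ ∈ R := by
      have h5 : e * r * e⁻¹ ∈ R := (mem_normalizer_iff.mp (hn (hE.le he)) r).mp hr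
      exact mul_mem h5 (inv_mem hr)
    obtain ⟨k, hk⟩ := h2 ⟨_, h4⟩
    have h5 : ⁅e, r⁆ ^ 2 ^ k = 1 := congrArg Subtype.val hk
    have h6 := eq_one_of_mem_core h3 h5
    rwa [commutatorElement_eq_one_iff_mul_comm] at h6

section

variable {α : Type*} [Fintype α] [DecidableEq α] {C : Type*} [Group C] (K : Cover α C) {x : C}

/-- the elements of `C(x)` acting on every orbit of `x` as `1` or `x` -/
def R (x : C) (hσ : ∀ i, K.π x (K.π x i) = i) : Subgroup C where
  carrier := {y | (∀ i, K.π y i = i ∨ K.π y i = K.π x i) ∧ y * x = x * y}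
  mul_mem' {a b} ha hb := by
    refine ⟨fun i => ?_, ?_⟩
    · rw [map_mul, Perm.mul_apply]
      rcases hb.1 i with h1 | h1
      · rw [h1]; exact ha.1 i
      · rw [h1]
        rcases ha.1 (K.π x i) with h2 | h2
        · exact Or.inr h2
        · left; rw [h2, hσ]
    · rw [mul_assoc, hb.2, ← mul_assoc, ha.2, mul_assoc]
  one_mem' := ⟨fun i => Or.inl (by rw [map_one]; rfl), by rw [one_mul, mul_one]⟩
  inv_mem' {a} ha := by
    refine ⟨fun i => ?_, ?_⟩
    · rw [map_inv]
      rcases ha.1 i with h1 | h1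
      · left; rw [Perm.inv_eq_iff_eq]; exact h1.symm
      · right
        rw [Perm.inv_eq_iff_eq]
        rcases ha.1 (K.π x i) with h2 | h2
        · have h3 := (K.π a).injective (h1.trans h2.symm)
          rw [h2, ← h3]
        · rw [h2, hσ]
    · rw [inv_mul_eq_iff_eq_mul, ← mul_assoc, ha.2, mul_inv_cancel_right]

theorem mem_R {hσ : ∀ i, K.π x (K.π x i) = i} {y : C} :
    y ∈ R K x hσ ↔ (∀ i, K.π y i = i ∨ K.π y i = K.π x i) ∧ y * x = x * y := Iff.rfl

theorem isPGroup_R (hσ : ∀ i, K.π x (K.π x i) = i) : IsPGroup 2 ↥(R K x hσ) := by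
  rintro ⟨y, hy1, -⟩
  have h1 : ∀ i, K.π y (K.π y i) = i := by
    intro i
    rcases hy1 i with h | h
    · rw [h, h]
    · rcases hy1 (K.π x i) with h2 | h2
      · have h3 := (K.π y).injective (h.trans h2.symm)
        rw [h, h2, ← h3]
      · rw [h, h2, hσ]
  have h2 : K.π (y * y) = 1 := by
    ext i
    rw [map_mul, Perm.mul_apply, h1, Perm.one_apply]
  refine ⟨2, ?_⟩
  apply Subtype.ext
  change y ^ 2 ^ 2 = 1
  have h3 : y ^ 2 ^ 2 = (y * y) * (y * y) := by
    show y ^ 4 = _
    simp only [pow_succ, pow_zero, one_mul, mul_assoc]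
  rw [h3]
  rcases (K.ker _).1 h2 with h | h
  · rw [h, one_mul]
  · rw [h, K.z_mul_z]

theorem R_le (hσ : ∀ i, K.π x (K.π x i) = i) : R K x hσ ≤ centralizer ({x} : Set C) :=
  fun _ hy => mem_centralizer_singleton_iff.mpr hy.2

theorem R_normal (hσ : ∀ i, K.π x (K.π x i) = i) :
    centralizer ({x} : Set C) ≤ normalizer (R K x hσ : Set C) := by
  have key : ∀ c ∈ centralizer ({x} : Set C), ∀ y ∈ R K x hσ, c * y * c⁻¹ ∈ R K x hσ := by
    intro c hc y hy
    rw [mem_centralizer_singleton_iff] at hc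
    refine ⟨fun i => ?_, ?_⟩
    · have h1 : K.π (c * y * c⁻¹) i = K.π c (K.π y (K.π c⁻¹ i)) := by
        rw [map_mul, map_mul, Perm.mul_apply, Perm.mul_apply]
      have h2 : K.π c (K.π c⁻¹ i) = i := by
        rw [← Perm.mul_apply, ← map_mul, mul_inv_cancel, map_one, Perm.one_apply]
      rw [h1]
      rcases hy.1 (K.π c⁻¹ i) with h | h
      · left; rw [h, h2]
      · right
        rw [h, ← Perm.mul_apply, ← map_mul, hc, map_mul, Perm.mul_apply, h2]
    · have h3 : c⁻¹ * x = x * c⁻¹ := by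
        rw [inv_mul_eq_iff_eq_mul, ← mul_assoc, hc, mul_inv_cancel_right]
      calc c * y * c⁻¹ * x = c * y * (c⁻¹ * x) := by group
        _ = c * (y * x) * c⁻¹ := by rw [h3]; group
        _ = c * x * y * c⁻¹ := by rw [hy.2]; group
        _ = x * (c * y * c⁻¹) := by rw [hc]; group
  intro c hc
  rw [mem_normalizer_iff]
  intro y
  refine ⟨key c hc y, fun h => ?_⟩
  have := key c⁻¹ (inv_mem hc) _ h
  convert this using 1
  group

theorem D_mem_R (hxx : x * x = 1) (hσ : ∀ i, K.π x (K.π x i) = i) {a c : α} (ha : K.π x a ≠ a)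
    (hc : K.π x c ≠ c) (hca : c ≠ a) (hcb : c ≠ K.π x a) :
    D K a (K.π x a) c (K.π x c) ∈ R K x hσ := by
  have hxi : x⁻¹ = x := inv_eq_of_mul_eq_one_left hxx
  have h1 : a ≠ K.π x c := fun h => hcb (by rw [h, hσ])
  have h3 : K.π x a ≠ K.π x c := fun h => hca ((K.π x).injective h).symm
  refine ⟨?_, ?_⟩
  · intro i
    rw [π_D K ha.symm hca.symm h1 hcb.symm hc.symm h3]
    by_cases i1 : i = a
    · right
      rw [i1, Perm.mul_apply, swap_apply_of_ne_of_ne hca.symm h1, swap_apply_left]
    by_cases i2 : i = K.π x a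
    · right
      rw [i2, hσ, Perm.mul_apply, swap_apply_of_ne_of_ne hcb.symm h3, swap_apply_right]
    by_cases i3 : i = c
    · right
      rw [i3, Perm.mul_apply, swap_apply_left, swap_apply_of_ne_of_ne h1.symm h3.symm]
    by_cases i4 : i = K.π x c
    · right
      rw [i4, hσ, Perm.mul_apply, swap_apply_right, swap_apply_of_ne_of_ne hca hcb]
    · left
      rw [Perm.mul_apply, swap_apply_of_ne_of_ne i3 i4, swap_apply_of_ne_of_ne i1 i2]
  · have h := AnTypes.fix_block K (f := (MulAut.conj x).toMonoidHom) (σ := K.π x)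
      (fun g => by show K.π (x * g * x⁻¹) = _; rw [map_mul, map_mul, map_inv])
      (by rw [← map_mul, hxx, map_one]) ha hc hca hcb
    have h' : x * D K a (K.π x a) c (K.π x c) * x⁻¹ = D K a (K.π x a) c (K.π x c) := h
    rw [mul_inv_eq_iff_eq_mul] at h'
    exact h'.symm

/-- **(A3)** -/
theorem not_mem [Finite C] (hxx : x * x = 1) (hx1 : x ≠ 1) (hxz : x ≠ K.z) {E : Subgroup C}
    (hE : IsComp (centralizer ({x} : Set C)) E) : x ∉ E := by
  intro hxE
  have hππ : K.π x * K.π x = 1 := by rw [← map_mul, hxx, map_one]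
  have hσ : ∀ i, K.π x (K.π x i) = i := fun i => by rw [← Perm.mul_apply, hππ, Perm.one_apply]
  have hne : K.π x ≠ 1 := by
    intro h
    rcases (K.ker x).1 h with h | h
    · exact hx1 h
    · exact hxz h
  have h8 : 8 ≤ (K.π x).support.card := by
    have h1 := (K.sq_eq_one_iff.1 hxx).2
    have h2 : 0 < (K.π x).support.card := by
      rw [Nat.pos_iff_ne_zero, Ne, Finset.card_eq_zero, Perm.support_eq_empty_iff]
      exact hne
    exact Nat.le_of_dvd h2 h1
  -- `E` commutes with the elements `D`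
  have hcomm : ∀ e ∈ E, ∀ a c : α, K.π x a ≠ a → K.π x c ≠ c → c ≠ a → c ≠ K.π x a →
      K.π e a = a ∨ K.π e a = K.π x a ∨ K.π e a = c ∨ K.π e a = K.π x c := by
    intro e he a c ha hc hca hcb
    have h1 := comm_of_normal_two hE (R_le K hσ) (R_normal K hσ) (isPGroup_R K hσ) he
      (D_mem_R K hxx hσ ha hc hca hcb)
    have h1' : a ≠ K.π x c := fun h => hcb (by rw [h, hσ])
    have h3 : K.π x a ≠ K.π x c := fun h => hca ((K.π x).injective h).symm
    have h2 := congrArg K.π h1
    rw [map_mul, map_mul, π_D K ha.symm hca.symm h1' hcb.symm hc.symm h3] at h2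
    by_contra hcon
    push Not at hcon
    obtain ⟨n1, n2, n3, n4⟩ := hcon
    have h4 := congrArg (fun τ => τ a) h2
    simp only [Perm.mul_apply] at h4
    rw [swap_apply_of_ne_of_ne hca.symm h1', swap_apply_left, swap_apply_of_ne_of_ne n3 n4,
      swap_apply_of_ne_of_ne n1 n2] at h4
    exact ha ((K.π e).injective h4)
  -- hence preserves every orbit of `x`
  have hblk : ∀ e ∈ E, ∀ a : α, K.π x a ≠ a → K.π e a = a ∨ K.π e a = K.π x a := by
    intro e he a ha
    obtain ⟨c, hc, hc'⟩ := AnTypes.exists_moved (K.π x) {a, K.π x a} (by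
      have h2 : ({a, K.π x a} : Finset α).card ≤ 2 := Finset.card_le_two
      omega)
    simp only [Finset.mem_insert, Finset.mem_singleton, not_or] at hc'
    obtain ⟨d, hd, hd'⟩ := AnTypes.exists_moved (K.π x) {a, K.π x a, c, K.π x c} (by
      have h2 : ({a, K.π x a, c, K.π x c} : Finset α).card ≤ 4 := Finset.card_le_four
      omega)
    simp only [Finset.mem_insert, Finset.mem_singleton, not_or] at hd'
    rcases hcomm e he a c ha hc hc'.1 hc'.2 with h | h | h | h
    · exact Or.inl h
    · exact Or.inr h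
    · rcases hcomm e he a d ha hd hd'.1 hd'.2.1 with h' | h' | h' | h'
      · exact Or.inl h'
      · exact Or.inr h'
      · exact absurd (h'.symm.trans h) hd'.2.2.1
      · exfalso
        have h5 : K.π x d = c := h'.symm.trans h
        exact hd'.2.2.2 (by rw [← h5, hσ])
    · rcases hcomm e he a d ha hd hd'.1 hd'.2.1 with h' | h' | h' | h'
      · exact Or.inl h'
      · exact Or.inr h'
      · exact absurd (h'.symm.trans h) hd'.2.2.2
      · exfalso
        have h5 : K.π x d = K.π x c := h'.symm.trans h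
        exact hd'.2.2.1 ((K.π x).injective h5)
  -- `E` perfect fixes the points
  have hfix : ∀ a : α, K.π x a ≠ a → ∀ e ∈ E, K.π e a = a := by
    intro a ha e he
    have h1 : E ≤ (MulAction.stabilizer (Perm α) a).comap K.π := by
      rw [← hE.perfect, Subgroup.commutator_le]
      intro e1 he1 e2 he2
      rw [mem_comap, MulAction.mem_stabilizer_iff, Perm.smul_def]
      have hfg : ∀ f ∈ E, ∀ g ∈ E, K.π f (K.π g a) = K.π g (K.π f a) := by
        intro f hf g hg
        have hxf : ∀ i, K.π f (K.π x i) = K.π x (K.π f i) := by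
          intro i
          rw [← Perm.mul_apply, ← Perm.mul_apply, ← map_mul, ← map_mul,
            mem_centralizer_singleton_iff.mp (hE.le hf)]
        have hxg : ∀ i, K.π g (K.π x i) = K.π x (K.π g i) := by
          intro i
          rw [← Perm.mul_apply, ← Perm.mul_apply, ← map_mul, ← map_mul,
            mem_centralizer_singleton_iff.mp (hE.le hg)]
        rcases hblk f hf a ha with h | h <;> rcases hblk g hg a ha with h' | h'
        · rw [h', h, h']
        · rw [h', hxf, h, h']
        · rw [h', h, hxg, h']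
        · rw [h', hxf, h, hσ, hxg, h', hσ]
      have h2 := hfg e1 he1 e2 he2
      have h3 : K.π ⁅e1, e2⁆ a = a := by
        have h4 : K.π ⁅e1, e2⁆ = K.π e1 * K.π e2 * (K.π e1)⁻¹ * (K.π e2)⁻¹ := by
          rw [commutatorElement_def, map_mul, map_mul, map_mul, map_inv, map_inv]
        have h5 := hfg e1⁻¹ (inv_mem he1) e2⁻¹ (inv_mem he2)
        rw [map_inv, map_inv] at h5
        rw [h4, Perm.mul_apply, Perm.mul_apply, Perm.mul_apply, h5, ← Perm.mul_apply (K.π e2),
          mul_inv_cancel, Perm.one_apply, ← Perm.mul_apply, mul_inv_cancel, Perm.one_apply]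
      exact h3
    exact h1 he
  obtain ⟨a, ha, -⟩ := AnTypes.exists_moved (K.π x) ∅ (by rw [Finset.card_empty]; omega)
  exact ha (hfix a ha x hxE)

end

end Cfsg.Agent.Intrinsic.AnThree
end
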